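import Groth.Agent.WeilGlue.Affine
import Groth.Agent.OverRep.Basic
import Groth.Prelude.Def_Flatn
import Mathlib.AlgebraicGeometry.Morphisms.Affine
import Mathlib.AlgebraicGeometry.Morphisms.Finite
import Mathlib.AlgebraicGeometry.Morphisms.Flat
import Mathlib.RingTheory.Finiteness.ModuleFinitePresentation
import Mathlib.RingTheory.Flat.EquationalCriterion

/-!
# Weil restriction of an affine scheme along a finite locally free morphism, and the functor `morS`
-/

set_option autoImplicit false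
set_option linter.style.haveILetI false
set_option backward.isDefEq.respectTransparency false
set_option backward.isDefEq.respectTransparency.types false

universe u

open CategoryTheory Limits AlgebraicGeometry Opposite

noncomputable section

namespace Groth.Agent.WeilMor

open Groth.Agent.WeilAlg Groth.Agent.WeilGlue

/-- A Weil restriction over an open of the base gives the points of the functor over that open. -/
theorem exists_over_open {S S' W W' : Scheme.{u}} {f : S' ⟶ S} {g : W' ⟶ W} {j : W ⟶ S} {j' : W' ⟶ S'}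
    (sq : IsPullback g j' j f) [IsOpenImmersion j] {Y : Over W'} {R : Over W} {q : Red.bc g R ⟶ Y}
    (h : WeilRes.IsWeilRes g Y R q) (X' : Over S') (inc : (Over.map j').obj Y ⟶ X') [IsOpenImmersion inc.left]
    (hinc : X'.hom.base ⁻¹' Set.range j'.base ⊆ Set.range inc.left.base) :
    ∃ q₁ : Red.bc f ((Over.map j).obj R) ⟶ X', ∀ T : Over S, Set.range T.hom.base ⊆ Set.range j.base →
      Function.Bijective (WeilRes.restr f q₁ T) := by
  haveI : IsOpenImmersion j' := MorphismProperty.of_isPullback sq ‹_›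
  let E : ∀ T : Over W, Red.bc f ((Over.map j).obj T) ≅ (Over.map j').obj (Red.bc g T) := fun T =>
    (Over.isoMk ((IsPullback.of_hasPullback T.hom g).paste_vert sq).isoPullback (by
      show _ ≫ pullback.snd (T.hom ≫ j) f = pullback.snd T.hom g ≫ j'
      exact IsPullback.isoPullback_hom_snd _)).symm
  have hE : ∀ {T T' : Over W} (r : T ⟶ T'),
      (Over.pullback f).map ((Over.map j).map r) ≫ (E T').hom = (E T).hom ≫ (Over.map j').map ((Over.pullback g).map r) := by
    intro T T' r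
    rw [← Iso.eq_comp_inv, Category.assoc, ← Iso.inv_comp_eq]
    refine Over.OverMorphism.ext (pullback.hom_ext ?_ ?_)
    · simp [E, Over.pullback_map_left]
    · simp [E, Over.pullback_map_left]
  haveI : Mono inc := Over.mono_of_mono_left _
  refine ⟨(E R).hom ≫ (Over.map j').map q ≫ inc, fun T hr => ?_⟩
  let T₀ : Over W := Over.mk (IsOpenImmersion.lift j T.hom hr)
  let e : (Over.map j).obj T₀ ≅ T := Over.isoMk (Iso.refl _) (by simp [T₀])
  let low : ∀ c : T ⟶ (Over.map j).obj R, T₀ ⟶ R := fun c => Over.homMk c.left (by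
    refine (cancel_mono j).1 ?_
    rw [Category.assoc]
    show c.left ≫ R.hom ≫ j = IsOpenImmersion.lift j T.hom hr ≫ j
    rw [IsOpenImmersion.lift_fac]; exact Over.w c)
  have hlow : ∀ c, (Over.map j).map (low c) = e.hom ≫ c := fun c => Over.OverMorphism.ext (by simp [low, e])
  refine ⟨fun a b hab => ?_, fun x => ?_⟩
  · have hk := congrArg ((Over.pullback f).map e.hom ≫ ·) hab
    simp only [← WeilRes.restr_comp, ← hlow] at hk
    simp only [WeilRes.restr_apply, reassoc_of% hE] at hk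
    rw [cancel_epi, ← Functor.map_comp_assoc, ← Functor.map_comp_assoc, cancel_mono] at hk
    have h2 : low a = low b := (h T₀).1 (Over.OverMorphism.ext (congrArg (fun m : _ ⟶ (Over.map j').obj Y => m.left) hk))
    rw [← cancel_epi e.hom, ← hlow, ← hlow, h2]
  · let x₁ : (Over.map j').obj (Red.bc g T₀) ⟶ X' := (E T₀).inv ≫ (Over.pullback f).map e.hom ≫ x
    have hrange : Set.range x₁.left.base ⊆ Set.range inc.left.base := by
      rintro _ ⟨p, rfl⟩
      refine hinc ⟨(Red.bc g T₀).hom p, ?_⟩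
      exact (congrArg (fun m : _ ⟶ S' => m p) (Over.w x₁)).symm
    let x₀ : Red.bc g T₀ ⟶ Y := Over.homMk (IsOpenImmersion.lift inc.left x₁.left hrange) (by
      refine (cancel_mono j').1 ?_
      rw [Category.assoc, show Y.hom ≫ j' = inc.left ≫ X'.hom from (Over.w inc).symm,
        IsOpenImmersion.lift_fac_assoc]
      exact Over.w x₁)
    have hx₀ : (Over.map j').map x₀ ≫ inc = x₁ := Over.OverMorphism.ext (IsOpenImmersion.lift_fac _ _ _)
    obtain ⟨r, hr'⟩ := (h T₀).2 x₀
    refine ⟨e.inv ≫ (Over.map j).map r, ?_⟩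
    rw [WeilRes.restr_comp, WeilRes.restr_apply, reassoc_of% (hE r), ← Functor.map_comp_assoc,
      show (Over.pullback g).map r ≫ q = x₀ from hr', hx₀]
    simp only [x₁, Iso.hom_inv_id_assoc, ← Functor.map_comp_assoc, Iso.inv_hom_id,
      CategoryTheory.Functor.map_id, Category.id_comp]

variable {S S' : Scheme.{u}} (f : S' ⟶ S) [IsFinite f] [Flat f] [LocallyOfFinitePresentation f]

/-- The functor of an affine scheme is represented over each affine open of the base by an affine scheme. -/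
theorem exists_chart (X' : Over S') (V : S.Opens) (hV : IsAffineOpen V)
    (hU : IsAffineOpen (X'.hom ⁻¹ᵁ (f ⁻¹ᵁ V))) :
    ∃ (Z : Over S) (q : Red.bc f Z ⟶ X'), IsAffine Z.left ∧ Set.range Z.hom.base ⊆ (V : Set S) ∧
      ∀ T : Over S, Set.range T.hom.base ⊆ (V : Set S) → Function.Bijective (WeilRes.restr f q T) := by
  have hV' : IsAffineOpen (f ⁻¹ᵁ V) := hV.preimage f
  let U : X'.left.Opens := X'.hom ⁻¹ᵁ (f ⁻¹ᵁ V)
  let B : Type u := Γ(S, V)
  let B' : Type u := Γ(S', f ⁻¹ᵁ V)
  let A' : Type u := Γ(X'.left, U)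
  letI : Algebra B B' := (f.app V).hom.toAlgebra
  letI : Algebra B' A' := (X'.hom.appLE (f ⁻¹ᵁ V) U le_rfl).hom.toAlgebra
  haveI : Module.Finite B B' := f.finite_app _ hV
  haveI : Module.Flat B B' := by
    have := f.flat_appLE hV hV' le_rfl
    rwa [Scheme.Hom.appLE_eq_app] at this
  haveI : Algebra.FinitePresentation B B' := by
    have := LocallyOfFinitePresentation.finitePresentation_appLE f hV hV' le_rfl
    rwa [Scheme.Hom.appLE_eq_app] at this
  haveI : Module.FinitePresentation B B' := Module.FinitePresentation.of_finite_of_finitePresentation B B'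
  haveI : Module.Projective B B' := Module.Flat.projective_of_finitePresentation
  obtain ⟨W, _, _, ξ, hξ⟩ := exists_rep_any B B' A'
  obtain ⟨R, q, hq⟩ : ∃ (R : Over (Spec (CommRingCat.of B))) (q : (F B B').obj R ⟶ specO B' A'),
      IsAffine R.left ∧ WeilRes.IsWeilRes (Spec.map (CommRingCat.ofHom (algebraMap B B'))) (specO B' A') R q := by
    refine ⟨specO B W, (pi B B' W).hom ≫ specOMap ξ, inferInstanceAs (IsAffine (Spec _)),
      isWeilRes_of_affine _ _ fun C g => ?_⟩
    obtain ⟨φ, rfl⟩ := Spec.map_surjective g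
    letI : Algebra B C := φ.hom.toAlgebra
    show Function.Bijective (WeilRes.restr _ _ (specO B C))
    have key : ∀ w : W →ₐ[B] C, WeilRes.restr (Spec.map (CommRingCat.ofHom (algebraMap B B')))
        ((pi B B' W).hom ≫ specOMap ξ) (specO B C) (specOMap w) =
        (pi B B' C).hom ≫ specOMap ((Algebra.TensorProduct.map (AlgHom.id B' B') w).comp ξ) := by
      intro w
      rw [WeilRes.restr_apply, specOMap_comp]
      exact ((Category.assoc _ _ _).symm.trans (congrArg (· ≫ specOMap ξ) (pi_natural B B' w))).trans (Category.assoc _ _ _)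
    refine ⟨fun g₁ g₂ hg => ?_, fun r => ?_⟩
    · obtain ⟨w₁, rfl⟩ := specOMap_surjective g₁
      obtain ⟨w₂, rfl⟩ := specOMap_surjective g₂
      rw [key, key, cancel_epi] at hg
      exact congrArg specOMap ((hξ C).1 (specOMap_injective hg))
    · obtain ⟨z, hz⟩ := specOMap_surjective ((pi B B' C).inv ≫ r)
      obtain ⟨w, hw⟩ := (hξ C).2 z
      refine ⟨specOMap w, ?_⟩
      rw [key]
      refine (congrArg (fun v => (pi B B' C).hom ≫ specOMap v) hw).trans ?_
      rw [hz, Iso.hom_inv_id_assoc]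
  have sq : IsPullback (Spec.map (CommRingCat.ofHom (algebraMap B B'))) hV'.fromSpec hV.fromSpec f := by
    refine IsOpenImmersion.isPullback _ _ _ _ ?_ ?_
    · show hV'.fromSpec ≫ f = Spec.map (f.app V) ≫ hV.fromSpec
      rw [← IsAffineOpen.SpecMap_appLE_fromSpec f hV hV' le_rfl, Scheme.Hom.appLE_eq_app]
    · apply TopologicalSpace.Opens.ext
      simp only [Scheme.Hom.coe_opensRange, Scheme.Hom.coe_preimage]
      erw [IsAffineOpen.range_fromSpec, IsAffineOpen.range_fromSpec]
      rfl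
  let inc : (Over.map hV'.fromSpec).obj (specO B' A') ⟶ X' := Over.homMk hU.fromSpec (by
    show hU.fromSpec ≫ X'.hom = Spec.map (X'.hom.appLE (f ⁻¹ᵁ V) U le_rfl) ≫ hV'.fromSpec
    rw [IsAffineOpen.SpecMap_appLE_fromSpec _ hV' hU])
  haveI : IsOpenImmersion inc.left := inferInstanceAs (IsOpenImmersion hU.fromSpec)
  obtain ⟨hRaff, hq⟩ := hq
  obtain ⟨q₁, hq₁⟩ := exists_over_open sq hq X' inc (by
    erw [IsAffineOpen.range_fromSpec, IsAffineOpen.range_fromSpec]
    exact Set.Subset.rfl)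
  refine ⟨_, q₁, hRaff, ?_, fun T hT => hq₁ T (hT.trans hV.range_fromSpec.ge)⟩
  rintro _ ⟨p, rfl⟩
  rw [← IsAffineOpen.range_fromSpec hV]
  exact ⟨R.hom p, rfl⟩

/-- The Weil restriction of an affine morphism along a finite locally free morphism exists and is affine. -/
theorem exists_isWeilRes (X' : Over S') [IsAffineHom X'.hom] :
    ∃ (R : Over S) (q : Red.bc f R ⟶ X'), IsAffineHom R.hom ∧ WeilRes.IsWeilRes f X' R q := by
  choose Z qZ hZaff hZr hZ using fun V : S.affineOpens => exists_chart f X' V.1 V.2 ((V.2.preimage f).preimage X'.hom)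
  obtain ⟨R, ⟨hR⟩⟩ := OverRep.exists_representableBy (F := WeilRes.functor f X') (isSheaf_functor f X') Z qZ
    (fun V T _ => T.hom ⁻¹ᵁ V.1) (fun V T x T' t => ⟨fun h => by
      obtain ⟨g, hg⟩ := (hZ V T' (by
        rintro _ ⟨p, rfl⟩
        rw [← Over.w t]
        exact h ⟨p, rfl⟩)).2 ((Over.pullback f).map t ≫ x)
      exact ⟨g, hg⟩, by
      rintro ⟨g, -⟩ _ ⟨p, rfl⟩
      show T.hom (t.left p) ∈ V.1
      rw [← Scheme.Hom.comp_apply, Over.w t, ← Over.w g]
      exact hZr V ⟨g.left p, rfl⟩⟩)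
    (fun V T g g' h => (hZ V T (by
      rintro _ ⟨p, rfl⟩
      rw [← Over.w g]
      exact hZr V ⟨g.left p, rfl⟩)).1 h)
    (fun T x p => by
      obtain ⟨V, hV, hpV, -⟩ := exists_isAffineOpen_mem_and_subset (U := (⊤ : S.Opens)) (x := T.hom p) trivial
      exact ⟨⟨V, hV⟩, hpV⟩)
  have hq := WeilRes.IsWeilRes.of_representableBy hR
  refine ⟨R, _, ⟨fun V hV => ?_⟩, hq⟩
  let q := hR.homEquiv (𝟙 R)
  let P : Over S := Over.mk ((R.hom ⁻¹ᵁ V).ι ≫ R.hom)
  let ι : P ⟶ R := Over.homMk (R.hom ⁻¹ᵁ V).ι rfl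
  have hPV : Set.range P.hom.base ⊆ (V : Set S) := by
    rintro _ ⟨p, rfl⟩
    exact ((R.hom ⁻¹ᵁ V).range_ι.subset ⟨p, rfl⟩ :)
  obtain ⟨a, ha⟩ := (hZ ⟨V, hV⟩ P hPV).2 (WeilRes.restr f q P ι)
  obtain ⟨b, hb⟩ := (hq (Z ⟨V, hV⟩)).2 (qZ ⟨V, hV⟩)
  have hbr : Set.range b.left.base ⊆ Set.range (R.hom ⁻¹ᵁ V).ι.base := by
    rw [Scheme.Opens.range_ι]
    rintro _ ⟨p, rfl⟩
    show R.hom (b.left p) ∈ V
    rw [← Scheme.Hom.comp_apply, Over.w b]
    exact hZr ⟨V, hV⟩ ⟨p, rfl⟩
  let b' : Z ⟨V, hV⟩ ⟶ P := Over.homMk (IsOpenImmersion.lift (R.hom ⁻¹ᵁ V).ι b.left hbr) (by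
    show _ ≫ (R.hom ⁻¹ᵁ V).ι ≫ R.hom = _
    rw [IsOpenImmersion.lift_fac_assoc]
    exact Over.w b)
  have hb' : b' ≫ ι = b := Over.OverMorphism.ext (IsOpenImmersion.lift_fac _ _ _)
  haveI : Mono ι := by
    haveI : Mono ι.left := inferInstanceAs (Mono (R.hom ⁻¹ᵁ V).ι)
    exact Over.mono_of_mono_left _
  have h1 : a ≫ b' = 𝟙 P := by
    rw [← cancel_mono ι, Category.assoc, hb', Category.id_comp]
    refine (hq P).1 ?_
    rw [WeilRes.restr_comp, hb, ← ha]
    rfl
  have h2 : b' ≫ a = 𝟙 _ := by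
    refine (hZ ⟨V, hV⟩ _ (hZr ⟨V, hV⟩)).1 ?_
    rw [WeilRes.restr_comp, ha, WeilRes.restr_id, ← WeilRes.restr_comp, hb', hb]
  let i : (Z ⟨V, hV⟩).left ≅ (R.hom ⁻¹ᵁ V).toScheme :=
    (Over.forget S).mapIso { hom := b', inv := a, hom_inv_id := h2, inv_hom_id := h1 }
  haveI := hZaff ⟨V, hV⟩
  show IsAffine (R.hom ⁻¹ᵁ V).toScheme
  exact IsAffine.of_isIso i.inv

omit [IsFinite f] [Flat f] [LocallyOfFinitePresentation f] in
/-- `morS` is the Weil restriction functor of the base change. -/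
def morSIso {X : Scheme.{u}} (h : X ⟶ S) :
    WeilRes.functor f ((Over.pullback f).obj (Over.mk h)) ≅ Flatn.morS f h :=
  NatIso.ofComponents (fun T => (((Over.mapPullbackAdj f).homEquiv _ _).symm).toIso) fun {T T'} t => by
    ext x
    exact (Over.mapPullbackAdj f).homEquiv_naturality_left_symm _ _

/-- `morS` of an affine morphism along a finite locally free morphism is represented by an affine morphism. -/
theorem exists_morS {X : Scheme.{u}} (h : X ⟶ S) [IsAffineHom h] :
    ∃ W : Over S, IsAffineHom W.hom ∧ Nonempty ((Flatn.morS f h).RepresentableBy W) := by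
  haveI : IsAffineHom ((Over.pullback f).obj (Over.mk h)).hom := MorphismProperty.pullback_snd (P := @IsAffineHom) h f inferInstance
  obtain ⟨R, q, hR, hq⟩ := exists_isWeilRes f ((Over.pullback f).obj (Over.mk h))
  exact ⟨R, hR, ⟨hq.representableBy.ofIso (morSIso f h)⟩⟩

end Groth.Agent.WeilMor
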