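import Groth.Agent.WeilMor.Basic
import Groth.Agent.H23.AffineFinset
import Groth.Agent.MorLib.IndQA

/-!
# `morS` along a finite locally free morphism when finite sets of points in fibres lie in affine opens
-/

set_option autoImplicit false
set_option linter.style.haveILetI false
set_option backward.isDefEq.respectTransparency false
set_option backward.isDefEq.respectTransparency.types false

universe u

open CategoryTheory Limits AlgebraicGeometry Opposite

noncomputable section

namespace Groth.Agent.WeilMor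

open Groth.Agent.WeilAlg Groth.Agent.WeilGlue

variable {S S' : Scheme.{u}} (f : S' ⟶ S) [IsFinite f] [Flat f] [LocallyOfFinitePresentation f]

/-- The Weil restriction along a finite locally free morphism, given affine charts containing the fibres. -/
theorem exists_isWeilRes_of_charts (X' : Over S') {ι : Type u} (V : ι → S.affineOpens) (U : ι → X'.left.Opens)
    (hU : ∀ i, IsAffineOpen (U i)) (hle : ∀ i, U i ≤ X'.hom ⁻¹ᵁ (f ⁻¹ᵁ (V i).1))
    (hcov : ∀ (s : S) (F : Finset X'.left), (∀ y ∈ F, f (X'.hom y) = s) → ∃ i, s ∈ (V i).1 ∧ ∀ y ∈ F, y ∈ U i) :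
    ∃ (R : Over S) (q : Red.bc f R ⟶ X'), WeilRes.IsWeilRes f X' R q := by
  have hch : ∀ i, ∃ (Z : Over S) (q : Red.bc f Z ⟶ Over.mk ((U i).ι ≫ X'.hom)),
      IsAffine Z.left ∧ Set.range Z.hom.base ⊆ ((V i).1 : Set S) ∧
      ∀ T : Over S, Set.range T.hom.base ⊆ ((V i).1 : Set S) → Function.Bijective (WeilRes.restr f q T) := by
    intro i
    refine exists_chart f _ (V i).1 (V i).2 ?_
    haveI : IsAffine (U i).toScheme := hU i
    have htop : ((U i).ι ≫ X'.hom) ⁻¹ᵁ (f ⁻¹ᵁ (V i).1) = ⊤ := by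
      rw [Scheme.Hom.comp_preimage, eq_top_iff]
      rintro ⟨y, hy⟩ -
      exact hle i hy
    show IsAffineOpen (((U i).ι ≫ X'.hom) ⁻¹ᵁ (f ⁻¹ᵁ (V i).1))
    rw [htop]
    exact isAffineOpen_top _
  choose Z qZ _ hZr hZ using hch
  let inc : ∀ i : ι, Over.mk ((U i).ι ≫ X'.hom) ⟶ X' := fun i => Over.homMk (U i).ι rfl
  haveI : ∀ i, Mono (inc i) := fun i => by
    haveI : Mono (inc i).left := inferInstanceAs (Mono (U i).ι)
    exact Over.mono_of_mono_left _
  have hP : ∀ {T T' : Over S} (t : T' ⟶ T) (v : ↥(Red.bc f T').left),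
      pullback.fst T.hom f (((Over.pullback f).map t).left v) = t.left (pullback.fst T'.hom f v) := fun {T T'} t v =>
    (Scheme.Hom.comp_apply _ _ _).symm.trans
      ((congrArg (fun m : (Red.bc f T').left ⟶ T.left => m v) (pullback.lift_fst _ _ _)).trans
        (Scheme.Hom.comp_apply _ _ _))
  have hcl : ∀ (T : Over S), IsClosedMap (pullback.fst T.hom f).base := fun T =>
    (pullback.fst T.hom f).isClosedMap
  let O : ∀ (i : ι) (T : Over S), (Red.bc f T ⟶ X') → T.left.Opens := fun i T x =>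
    T.hom ⁻¹ᵁ (V i).1 ⊓
      ⟨((pullback.fst T.hom f).base '' (x.left.base ⁻¹' (U i : Set X'.left)ᶜ))ᶜ,
        (hcl T _ ((U i).isOpen.isClosed_compl.preimage x.left.continuous)).isOpen_compl⟩
  refine Exists.elim (OverRep.exists_representableBy (F := WeilRes.functor f X') (isSheaf_functor f X') Z
    (fun i => qZ i ≫ inc i) O ?_ ?_ ?_) fun R hR =>
    ⟨R, hR.some.homEquiv (𝟙 R), WeilRes.IsWeilRes.of_representableBy hR.some⟩
  · intro i T x T' t
    constructor
    · intro h
      have hT' : Set.range T'.hom.base ⊆ ((V i).1 : Set S) := by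
        rintro _ ⟨p, rfl⟩
        rw [← Over.w t]
        exact (h ⟨p, rfl⟩).1
      have hrange : Set.range ((Over.pullback f).map t ≫ x).left.base ⊆ Set.range (U i).ι.base := by
        rw [Scheme.Opens.range_ι]
        rintro _ ⟨v, rfl⟩
        by_contra hv
        refine (h ⟨pullback.fst T'.hom f v, rfl⟩).2 ⟨((Over.pullback f).map t).left v, ?_, hP t v⟩
        rw [Over.comp_left, Scheme.Hom.comp_apply] at hv
        exact hv
      let h₀ : Red.bc f T' ⟶ Over.mk ((U i).ι ≫ X'.hom) :=
        Over.homMk (IsOpenImmersion.lift (U i).ι _ hrange) (by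
          show _ ≫ (U i).ι ≫ X'.hom = _
          rw [← Category.assoc, IsOpenImmersion.lift_fac]
          exact Over.w _)
      obtain ⟨g, hg⟩ := (hZ i T' hT').2 h₀
      refine ⟨g, ?_⟩
      show (Over.pullback f).map g ≫ qZ i ≫ inc i = (Over.pullback f).map t ≫ x
      rw [← Category.assoc, show (Over.pullback f).map g ≫ qZ i = h₀ from hg]
      exact Over.OverMorphism.ext (IsOpenImmersion.lift_fac _ _ _)
    · rintro ⟨g, hg⟩ _ ⟨a, rfl⟩
      refine ⟨?_, ?_⟩
      · show T.hom (t.left a) ∈ (V i).1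
        rw [← Scheme.Hom.comp_apply, Over.w t, ← Over.w g]
        exact hZr i ⟨g.left a, rfl⟩
      · rintro ⟨w, hw, hwe⟩
        obtain ⟨v', hv'⟩ : ∃ v', ((Over.pullback f).map t).left v' = w := by
          have sq : IsPullback ((Over.pullback f).map t).left (pullback.fst T'.hom f) (pullback.fst T.hom f) t.left := by
            refine IsPullback.of_right (h₁₂ := pullback.snd T.hom f) (v₁₃ := f) (h₂₂ := T.hom) ?_ (pullback.lift_fst _ _ _)
              (IsPullback.of_hasPullback T.hom f).flip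
            rw [show ((Over.pullback f).map t).left ≫ pullback.snd T.hom f = pullback.snd T'.hom f from
              pullback.lift_snd _ _ _, show t.left ≫ T.hom = T'.hom from Over.w t]
            exact (IsPullback.of_hasPullback T'.hom f).flip
          obtain ⟨v₀, h1, -⟩ := Scheme.Pullback.exists_preimage_pullback (f := pullback.fst T.hom f) (g := t.left) w a hwe
          refine ⟨sq.isoPullback.inv v₀, ?_⟩
          rw [← Scheme.Hom.comp_apply, IsPullback.isoPullback_inv_fst]; exact h1
        refine hw ?_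
        have h2 : ((Over.pullback f).map g ≫ qZ i ≫ inc i).left v' = ((Over.pullback f).map t ≫ x).left v' :=
          congrArg (fun m : Red.bc f T' ⟶ X' => m.left v') hg
        rw [Over.comp_left, Over.comp_left, Over.comp_left, Scheme.Hom.comp_apply, Scheme.Hom.comp_apply,
          Scheme.Hom.comp_apply, hv'] at h2
        have hm : ∀ z : ↥(Over.mk ((U i).ι ≫ X'.hom)).left, (inc i).left z ∈ (U i : Set X'.left) := fun z => by
          have : (U i).ι.base z ∈ Set.range (U i).ι.base := ⟨z, rfl⟩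
          rwa [Scheme.Opens.range_ι] at this
        exact (congrArg (fun z => z ∈ (U i : Set X'.left)) h2).mp (hm _)
  · intro i T g g' h
    refine (hZ i T (by
      rintro _ ⟨p, rfl⟩
      rw [← Over.w g]
      exact hZr i ⟨g.left p, rfl⟩)).1 ?_
    rw [← cancel_mono (inc i)]
    have h' : (Over.pullback f).map g ≫ qZ i ≫ inc i = (Over.pullback f).map g' ≫ qZ i ≫ inc i := h
    simpa only [WeilRes.restr_apply, Category.assoc] using h'
  · intro T x p
    classical
    have hfin : ((pullback.fst T.hom f).base ⁻¹' {p}).Finite := (pullback.fst T.hom f).finite_preimage_singleton p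
    obtain ⟨i, hi, hiU⟩ := hcov (T.hom p) (hfin.toFinset.image x.left.base) fun y hy => by
      obtain ⟨v, hv, rfl⟩ := Finset.mem_image.1 hy
      have hv' : pullback.fst T.hom f v = p := hfin.mem_toFinset.1 hv
      rw [← Scheme.Hom.comp_apply x.left, Over.w x]
      show f (pullback.snd T.hom f v) = _
      rw [← Scheme.Hom.comp_apply, ← pullback.condition, Scheme.Hom.comp_apply, hv']
    exact ⟨i, hi, by
      rintro ⟨v, hv, hvp⟩
      exact hv (hiU _ (Finset.mem_image.2 ⟨v, hfin.mem_toFinset.2 hvp, rfl⟩))⟩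

omit [IsFinite f] [Flat f] [LocallyOfFinitePresentation f] in
/-- A quasi-affine scheme has affine opens around finitely many points. -/
theorem exists_affine_of_isQuasiAffine (X : Scheme.{u}) [X.IsQuasiAffine] (F : Finset X) :
    ∃ U : X.Opens, IsAffineOpen U ∧ ∀ x ∈ F, x ∈ U := by
  classical
  obtain ⟨g, hg, hgF⟩ := H23.AffineFinset.exists_basicOpen_le (isAffineOpen_top (Spec Γ(X, ⊤)))
    X.toSpecΓ.opensRange (F.image X.toSpecΓ.base) (fun _ _ => trivial) (fun y hy => by
      obtain ⟨x, -, rfl⟩ := Finset.mem_image.1 hy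
      exact ⟨x, rfl⟩)
  exact ⟨X.toSpecΓ ⁻¹ᵁ (Spec Γ(X, ⊤)).basicOpen g,
    ((isAffineOpen_top _).basicOpen g).preimage_of_isOpenImmersion X.toSpecΓ hg,
    fun x hx => hgF _ (Finset.mem_image.2 ⟨x, hx, rfl⟩)⟩

/-- `morS` is representable when finite sets of points in fibres lie in affine opens. -/
theorem isRepresentable_morS {X : Scheme.{u}} (h : X ⟶ S)
    (hAF : ∀ (s : S) (F : Finset X), (∀ x ∈ F, h x = s) → ∃ U : X.Opens, IsAffineOpen U ∧ ∀ x ∈ F, x ∈ U) :
    (Flatn.morS f h).IsRepresentable := by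
  classical
  let X' : Over S' := (Over.pullback f).obj (Over.mk h)
  let ι := {p : S.affineOpens × X.affineOpens // p.2.1 ≤ h ⁻¹ᵁ p.1.1}
  let U : ι → X'.left.Opens := fun i => pullback.fst h f ⁻¹ᵁ i.1.2.1
  obtain ⟨R, q, hq⟩ := exists_isWeilRes_of_charts f X' (fun i : ι => i.1.1) U
    (fun i => i.1.2.2.preimage (pullback.fst h f))
    (fun i y hy => by
      show f (pullback.snd h f y) ∈ i.1.1.1
      rw [← Scheme.Hom.comp_apply, ← pullback.condition, Scheme.Hom.comp_apply]
      exact i.2 hy)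
    (fun s F hF => by
      obtain ⟨W, hW, hsW, -⟩ := exists_isAffineOpen_mem_and_subset (U := (⊤ : S.Opens)) (x := s) trivial
      have hF' : ∀ x ∈ F.image (pullback.fst h f).base, h x = s := fun x hx => by
        obtain ⟨y, hy, rfl⟩ := Finset.mem_image.1 hx
        rw [← Scheme.Hom.comp_apply, pullback.condition, Scheme.Hom.comp_apply]
        exact hF y hy
      obtain ⟨A, hA, hAF'⟩ := hAF s _ hF'
      obtain ⟨r, hr, hrF⟩ := H23.AffineFinset.exists_basicOpen_le hA (h ⁻¹ᵁ W) _ hAF'
        (fun x hx => show h x ∈ W from (hF' x hx).symm ▸ hsW)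
      exact ⟨⟨(⟨W, hW⟩, ⟨X.basicOpen r, hA.basicOpen r⟩), hr⟩, hsW,
        fun y hy => hrF _ (Finset.mem_image.2 ⟨y, hy, rfl⟩)⟩)
  exact (hq.representableBy.ofIso (morSIso f h)).isRepresentable

/-- Finitely many points in a fibre of a separated locally quasi-finite morphism lie in an affine open. -/
theorem exists_affine_fibre {X : Scheme.{u}} (h : X ⟶ S) [IsSeparated h] [LocallyQuasiFinite h]
    [LocallyOfFiniteType h] (s : S) (F : Finset X) (hF : ∀ x ∈ F, h x = s) :
    ∃ U : X.Opens, IsAffineOpen U ∧ ∀ x ∈ F, x ∈ U := by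
  classical
  obtain ⟨W, hW, hsW, -⟩ := exists_isAffineOpen_mem_and_subset (U := (⊤ : S.Opens)) (x := s) trivial
  choose A hA hxA hAW using fun x : F => exists_isAffineOpen_mem_and_subset (U := h ⁻¹ᵁ W) (x := x.1)
    (show h x.1 ∈ W from (hF x.1 x.2).symm ▸ hsW)
  let Q : X.Opens := ⨆ x : F, A x
  have hQc : IsCompact (Q : Set X) := by
    rw [TopologicalSpace.Opens.coe_iSup]
    exact isCompact_iUnion fun x => (hA x).isCompact
  have hQW : Q ≤ h ⁻¹ᵁ W := iSup_le hAW
  haveI : CompactSpace Q.toScheme := isCompact_iff_compactSpace.1 hQc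
  haveI : IsAffine W.toScheme := hW
  let hQ : Q.toScheme ⟶ W.toScheme := h.resLE W Q hQW
  have hfac : hQ ≫ W.ι = Q.ι ≫ h := Scheme.Hom.resLE_comp_ι _ _
  haveI : IsSeparated hQ := by
    haveI : IsSeparated (hQ ≫ W.ι) := by rw [hfac]; infer_instance
    exact IsSeparated.of_comp hQ W.ι
  haveI : LocallyOfFiniteType hQ := by
    haveI : LocallyOfFiniteType (hQ ≫ W.ι) := by rw [hfac]; infer_instance
    exact locallyOfFiniteType_of_comp hQ W.ι
  haveI : LocallyQuasiFinite hQ := by
    haveI : LocallyQuasiFinite (hQ ≫ W.ι) := by rw [hfac]; infer_instance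
    exact LocallyQuasiFinite.of_comp hQ W.ι
  haveI : Q.toScheme.IsQuasiAffine := MorLib.IQA.qa_of_locallyQuasiFinite hQ
  let lift : F → Q.toScheme := fun x =>
    ⟨x.1, (TopologicalSpace.Opens.mem_iSup.2 ⟨x, hxA x⟩ : x.1 ∈ ⨆ x : F, A x)⟩
  obtain ⟨U, hU, hUF⟩ := exists_affine_of_isQuasiAffine Q.toScheme (F.attach.image lift)
  exact ⟨Q.ι ''ᵁ U, hU.image_of_isOpenImmersion Q.ι,
    fun x hx => ⟨_, hUF _ (Finset.mem_image.2 ⟨⟨x, hx⟩, Finset.mem_attach _ _, rfl⟩), rfl⟩⟩

end Groth.Agent.WeilMor
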